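import Cfsg.Agent.Lib.Helper92.PCX.Check

/-!
# Glue: permutations from pairs of codes, packed tables, divisibility of the order
-/

set_option autoImplicit false

namespace Cfsg.Agent.Lib.Helper92.PCX

open Cfsg.Agent.Lib.Helper27
open Cfsg.Agent.Lib.Helper92

/-- the permutation with code `c` and inverse code `c'` (the identity if the test fails). -/
def pm (n c c' : ℕ) : Equiv.Perm (Fin n) :=
  if h : invOK n c c' = true then ofC n c c' h else 1

theorem hasP_pm {n c c' : ℕ} (h : invOK n c c' = true) : HasP (pm n c c') c := by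
  unfold pm; rw [dif_pos h]; exact hasP_ofC h

theorem hasP_pm_inv {n c c' : ℕ} (h : invOK n c c' = true) : HasP (pm n c c')⁻¹ c' := by
  unfold pm; rw [dif_pos h]; exact hasP_ofC_inv h

theorem mem_of_code {n : ℕ} {H : Subgroup (Equiv.Perm (Fin n))} {c : ℕ}
    (h : ∃ σ ∈ H, HasP σ c) {τ : Equiv.Perm (Fin n)} (hτ : HasP τ c) : τ ∈ H := by
  obtain ⟨σ, hσ, hc⟩ := h
  rw [hτ.ext hc]; exact hσ

theorem nth_mem {l : List ℕ} {k : ℕ} (h : k < l.length) : nth l k ∈ l := by
  induction l generalizing k with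
  | nil => exact absurd h (by simp)
  | cons a l ih =>
    cases k with
    | zero => exact List.mem_cons_self
    | succ k => exact List.mem_cons_of_mem _ (ih (by simpa using h))

/-- packed tables, 16 bits per entry. -/
def tb (D k : ℕ) : ℕ := Nat.land (Nat.shiftRight D (Nat.mul 16 k)) 65535

/-- the `k`-th word of a list. -/
def nthB (l : List (List Bool)) : ℕ → List Bool :=
  List.rec (fun _ => []) (fun a _ ih k => Nat.rec a (fun m _ => ih m) k) l

/-- all pairs of codes are valid. -/
def pairsOK (n : ℕ) (gc gi : ℕ → ℕ) (r : ℕ) : Bool := allBelow (fun j => invOK n (gc j) (gi j)) r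

theorem hasP_of_pairsOK {n : ℕ} {gc gi : ℕ → ℕ} {r : ℕ} (h : pairsOK n gc gi r = true) :
    ∀ j < r, HasP (pm n (gc j) (gi j)) (gc j) := by
  unfold pairsOK at h
  rw [allBelow_iff] at h
  exact fun j hj => hasP_pm (h j hj)

theorem card_genS_dvd {n : ℕ} {g : ℕ → Equiv.Perm (Fin n)} {r : ℕ} {T : ℕ → ℕ} {N : ℕ}
    (hL : ListData n g r T N) {P : Subgroup (Equiv.Perm (Fin n))} (h : ∀ j < r, g j ∈ P) :
    N ∣ Nat.card P := by
  rw [← hL.card]
  exact Subgroup.card_dvd_of_le (genS_le h)

theorem orderOf_dvd_card_of_mem {G : Type*} [Group G] {P : Subgroup G} {x : G} (hx : x ∈ P) :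
    orderOf x ∣ Nat.card P := by
  rw [← Nat.card_zpowers]
  exact Subgroup.card_dvd_of_le (by rw [Subgroup.zpowers_le]; exact hx)

end Cfsg.Agent.Lib.Helper92.PCX
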