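import Cfsg.Agent.Lib.Helper92.PCX.Check

/-!
# Two-generator groups `P = ⟨a, z⟩` all of whose automorphisms are inner

`a` generates a Sylow subgroup of prime order, `z` is the unique central involution of a Sylow
`2`-subgroup.  Every automorphism can be normalised by inner automorphisms so that `a ↦ a ^ m` and
`z ↦` a conjugate of `z`.
-/

set_option autoImplicit false

namespace Cfsg.Agent.Lib.Helper92.PCX

open Cfsg

/-- the hypotheses. -/
structure AutSetup1 {Γ : Type*} [Group Γ] (a z : Γ) (p k : ℕ) (S : Subgroup Γ) : Prop where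
  fin : Finite (PG a z)
  pp : p.Prime
  oa : orderOf a = p
  hp2 : ¬ p ^ 2 ∣ Nat.card (PG a z)
  hSP : S ≤ PG a z
  cS : Nat.card S = 2 ^ k
  hk : ¬ 2 ^ (k + 1) ∣ Nat.card (PG a z)
  zS : z ∈ S
  z1 : z ≠ 1
  zc : ∀ t ∈ S, z * t = t * z
  zu : ∀ s ∈ S, (∀ t ∈ S, s * t = t * s) → s = 1 ∨ s = z
  H2 : ∀ (m : ℕ) (y : Γ), 0 < m → m < p → (∃ x ∈ PG a z, y = x * z * x⁻¹) →
    (∀ (w : List Bool) (mm : ℕ), ev a z w ^ mm = 1 → ev (a ^ m) y w ^ mm = 1) →
    ∃ u ∈ PG a z, u * a * u⁻¹ = a ^ m ∧ u * z * u⁻¹ = y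

namespace AutSetup1

variable {Γ : Type*} [Group Γ] {a z : Γ} {p k : ℕ} {S : Subgroup Γ}

/-- every automorphism is inner. -/
theorem inner (h : AutSetup1 a z p k S) (α : MulAut (PG a z)) : α ∈ Cfsg.Inn (PG a z) := by
  have := h.fin
  have : Fact p.Prime := ⟨h.pp⟩
  let aP : (PG a z) := ⟨a, AutSetup.a_mem⟩
  let zP : (PG a z) := ⟨z, AutSetup.z_mem⟩
  have hoa : orderOf aP = p := by rw [← h.oa]; exact Subgroup.orderOf_mk a AutSetup.a_mem
  obtain ⟨x3, m, hm0, hmp, hx1⟩ := exists_conj_pow h.hp2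
    (x := α aP) (y := aP) (by rw [MulEquiv.orderOf_eq, hoa]) hoa
  let β : MulAut (PG a z) := MulAut.conj x3 * α
  have hβ : ∀ x, β x = x3 * α x * x3⁻¹ := fun x => rfl
  have hβa : ((β aP : (PG a z)) : Γ) = a ^ m := by
    rw [hβ, hx1]
    rfl
  have hcS : Nat.card (S.subgroupOf (PG a z)) = 2 ^ k := by
    rw [← h.cS]
    exact Nat.card_congr (Subgroup.subgroupOfEquivOfLe h.hSP).toEquiv
  obtain ⟨x4, hx4⟩ := central_conj (S.subgroupOf (PG a z)) hcS h.hk (z := zP)
    (Subgroup.mem_subgroupOf.2 h.zS) (fun e => h.z1 (congrArg Subtype.val e))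
    (fun t ht => Subtype.ext (h.zc t.1 (Subgroup.mem_subgroupOf.1 ht)))
    (fun s hs hc => by
      rcases h.zu s.1 (Subgroup.mem_subgroupOf.1 hs) (fun t ht =>
        congrArg Subtype.val (hc ⟨t, h.hSP ht⟩ (Subgroup.mem_subgroupOf.2 ht))) with e | e
      · exact Or.inl (Subtype.ext e)
      · exact Or.inr (Subtype.ext e)) β
  have hy : ∃ x ∈ (PG a z), ((β zP : (PG a z)) : Γ) = x * z * x⁻¹ :=
    ⟨x4.1, x4.2, by rw [hx4]; rfl⟩
  have hrel : ∀ (w : List Bool) (mm : ℕ), ev a z w ^ mm = 1 →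
      ev (a ^ m) ((β zP : (PG a z)) : Γ) w ^ mm = 1 := by
    intro w mm hw
    have e1 : ev aP zP w ^ mm = 1 := by
      apply Subtype.ext
      have := map_ev (PG a z).subtype aP zP w
      rw [Subgroup.coe_pow]
      have e2 : ((ev aP zP w : (PG a z)) : Γ) = ev a z w := this
      rw [e2, hw]; rfl
    have e3 := congrArg (fun x => ((β x : (PG a z)) : Γ)) e1
    simp only [map_pow, map_one, Subgroup.coe_pow, Subgroup.coe_one] at e3
    have e4 : ((β (ev aP zP w) : (PG a z)) : Γ) = ev ((β aP : (PG a z)) : Γ) ((β zP : (PG a z)) : Γ) w :=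
      map_ev ((PG a z).subtype.comp β.toMonoidHom) aP zP w
    rw [← hβa, ← e4]; exact e3
  obtain ⟨u, hu, hua, huz⟩ := h.H2 m _ hm0 hmp hy hrel
  have hβu : ∀ x : (PG a z), ((β x : (PG a z)) : Γ) = u * x * u⁻¹ := by
    have := hom_ext_closure ((PG a z).subtype.comp β.toMonoidHom)
      ((MulAut.conj u).toMonoidHom.comp (PG a z).subtype) (by
        rintro x (rfl | hx)
        · exact hβa.trans hua.symm
        · have hx' := Set.mem_singleton_iff.1 hx
          subst hx'
          exact huz.symm)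
    exact fun x => DFunLike.congr_fun this x
  refine ⟨x3⁻¹ * ⟨u, hu⟩, ?_⟩
  ext x
  have e : α x = x3⁻¹ * β x * x3 := by rw [hβ]; group
  rw [e, Subgroup.coe_mul, Subgroup.coe_mul, hβu, Subgroup.coe_inv]
  simp [MulAut.conj_apply, mul_assoc]

theorem card_out (h : AutSetup1 a z p k S) : Nat.card (Cfsg.Out (PG a z)) = 1 := by
  show (Cfsg.Inn (PG a z)).index = 1
  rw [Subgroup.index_eq_one, eq_top_iff]
  exact fun α _ => h.inner α

end AutSetup1

/-! ### counting a conjugacy class -/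

/-- a family of `M` distinct conjugates of `z` is the whole class when the centraliser is big enough. -/
theorem class_cover {Γ : Type*} [Group Γ] (P : Subgroup Γ) [Finite P] (z : Γ) {M c : ℕ}
    (hG : Nat.card P = c * M) (hc0 : 0 < c) (C : Subgroup Γ) (hCP : C ≤ P)
    (hC : ∀ x ∈ C, z * x = x * z) (hc : c ≤ Nat.card C) (f : Fin M → Γ)
    (hf : Function.Injective f) (hcl : ∀ i, ∃ x ∈ P, f i = x * z * x⁻¹) :
    ∀ x ∈ P, ∃ i, x * z * x⁻¹ = f i := by
  letI : MulAction P Γ := MulAction.compHom Γ ((MulAut.conj : Γ →* MulAut Γ).comp P.subtype)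
  have hsm : ∀ (x : P) (y : Γ), x • y = x.1 * y * x.1⁻¹ := fun _ _ => rfl
  have h1 : Nat.card (MulAction.orbit P z) * Nat.card (MulAction.stabilizer P z) = Nat.card P := by
    rw [← Nat.card_prod]
    exact Nat.card_congr (MulAction.orbitProdStabilizerEquivGroup P z)
  have h2 : Nat.card C ≤ Nat.card (MulAction.stabilizer P z) := by
    refine Nat.card_le_card_of_injective
      (fun x : C => (⟨⟨x.1, hCP x.2⟩, ?_⟩ : MulAction.stabilizer P z)) ?_
    · rw [MulAction.mem_stabilizer_iff, hsm]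
      show x.1 * z * x.1⁻¹ = z
      rw [← hC x.1 x.2]; group
    · intro x y hxy
      have := congrArg (fun s : MulAction.stabilizer P z => (s.1.1 : Γ)) hxy
      exact Subtype.ext this
  have h3 : Nat.card (MulAction.orbit P z) ≤ M := by
    by_contra hlt
    have h4 : M + 1 ≤ Nat.card (MulAction.orbit P z) := by omega
    have h5 : (M + 1) * c ≤ Nat.card (MulAction.orbit P z) * Nat.card (MulAction.stabilizer P z) :=
      Nat.mul_le_mul h4 (hc.trans h2)
    rw [h1, hG] at h5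
    nlinarith
  have : Finite (MulAction.orbit P z) :=
    Finite.of_surjective (fun x : P => (⟨x • z, MulAction.mem_orbit z x⟩ : MulAction.orbit P z))
      (by rintro ⟨_, ⟨x, rfl⟩⟩; exact ⟨x, rfl⟩)
  let g : Fin M → MulAction.orbit P z := fun i => ⟨f i, by
    obtain ⟨x, hx, e⟩ := hcl i
    exact ⟨⟨x, hx⟩, e.symm⟩⟩
  have hg : Function.Injective g := fun i j hij => hf (congrArg Subtype.val hij)
  have hb : Function.Bijective g :=
    hg.bijective_of_nat_card_le (by rw [Nat.card_fin]; exact h3)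
  intro x hx
  obtain ⟨i, hi⟩ := hb.2 ⟨x * z * x⁻¹, ⟨⟨x, hx⟩, rfl⟩⟩
  exact ⟨i, (congrArg Subtype.val hi).symm⟩

/-! ### elements normalising `⟨a⟩` -/

/-- the elements normalising the cyclic group generated by `a`. -/
def normZ {Γ : Type*} [Group Γ] (a : Γ) : Subgroup Γ where
  carrier := {s | ∀ h ∈ Subgroup.zpowers a, s * h * s⁻¹ ∈ Subgroup.zpowers a ∧
    s⁻¹ * h * s ∈ Subgroup.zpowers a}
  one_mem' := fun h hh => by simpa using hh
  mul_mem' := by
    intro s t hs ht h hh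
    constructor
    · have := (hs _ (ht h hh).1).1
      simpa [mul_assoc] using this
    · have := (ht _ (hs h hh).2).2
      simpa [mul_assoc] using this
  inv_mem' := by
    intro s hs h hh
    have := hs h hh
    exact ⟨by simpa using this.2, by simpa using this.1⟩

theorem mem_normZ {Γ : Type*} [Group Γ] {a s : Γ} {e e' : ℕ} (h1 : s * a = a ^ e * s)
    (h2 : a * s = s * a ^ e') : s ∈ normZ a := by
  intro h hh
  obtain ⟨i, rfl⟩ := Subgroup.mem_zpowers_iff.1 hh
  constructor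
  · have : s * a * s⁻¹ = a ^ e := by rw [h1]; group
    rw [← conj_zpow, this]
    exact Subgroup.zpow_mem _ (Subgroup.pow_mem _ (Subgroup.mem_zpowers a) e) i
  · have : s⁻¹ * a * s⁻¹⁻¹ = a ^ e' := by rw [inv_inv, mul_assoc, h2]; group
    have h3 : s⁻¹ * a ^ i * s = s⁻¹ * a ^ i * s⁻¹⁻¹ := by rw [inv_inv]
    rw [h3, ← conj_zpow, this]
    exact Subgroup.zpow_mem _ (Subgroup.pow_mem _ (Subgroup.mem_zpowers a) e') i

theorem normZ_pow {Γ : Type*} [Group Γ] {a s : Γ} {p : ℕ} (hp : p.Prime) (oa : orderOf a = p)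
    (hs : s ∈ normZ a) {m : ℕ} (hm0 : 0 < m) (hmp : m < p) :
    ∃ m', 0 < m' ∧ m' < p ∧ s⁻¹ * a ^ m * s = a ^ m' := by
  obtain ⟨i, hi⟩ := Subgroup.mem_zpowers_iff.1
    (hs (a ^ m) (Subgroup.pow_mem _ (Subgroup.mem_zpowers a) m)).2
  have hp0 : (0 : ℤ) < p := by exact_mod_cast hp.pos
  obtain ⟨m', hm'⟩ := Int.eq_ofNat_of_zero_le (Int.emod_nonneg i hp0.ne')
  have hmp' : m' < p := by
    have := Int.emod_lt_of_pos i hp0
    rw [hm'] at this
    exact_mod_cast this
  have hi' : a ^ i = a ^ m' := by rw [← zpow_mod_orderOf a i, oa, hm', zpow_natCast]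
  refine ⟨m', ?_, hmp', by rw [← hi', hi]⟩
  rcases Nat.eq_zero_or_pos m' with h0 | h0
  · exfalso
    rw [hi', h0, pow_zero] at hi
    have h1 : a ^ m = 1 := by
      have := congrArg (fun t => s * t * s⁻¹) hi
      simp only [mul_one, mul_inv_cancel] at this
      rw [this]; group
    have h2 := orderOf_dvd_of_pow_eq_one h1
    rw [oa] at h2
    exact absurd (Nat.le_of_dvd hm0 h2) (by omega)
  · exact h0

end Cfsg.Agent.Lib.Helper92.PCX
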