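import Cfsg.Agent.Lib.Helper92.M24Tools
import Cfsg.Agent.Lib.Helper56.SchreierSims

/-!
# Permutations of `Fin n` (`n ≤ 1024`) coded by natural numbers, 10 bits per entry

`HasP σ c` : the entries of the code `c` are the values of `σ`.
`mulP n a b` : the code of the product.  Everything reduces well in the kernel.
-/

set_option autoImplicit false

namespace Cfsg.Agent.Lib.Helper92.PCX

open Cfsg.Agent.Lib.Helper27
open Cfsg.Agent.Lib.Helper92

/-- the `i`-th entry of a code. -/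
def en (c i : ℕ) : ℕ := Nat.land (Nat.shiftRight c (Nat.mul 10 i)) 1023

/-- code with entries `d 0, …, d (n-1)`. -/
def mk (d : ℕ → ℕ) (n : ℕ) : ℕ :=
  Nat.rec 0 (fun i ih => Nat.lor ih (Nat.shiftLeft (d i) (Nat.mul 10 i))) n

theorem mk_succ (d : ℕ → ℕ) (n : ℕ) : mk d (n + 1) = mk d n ||| (d n) <<< (10 * n) := rfl

theorem mk_congr {d d' : ℕ → ℕ} {n : ℕ} (h : ∀ i < n, d i = d' i) : mk d n = mk d' n := by
  induction n with
  | zero => rfl
  | succ n ih =>
    rw [mk_succ, mk_succ, ih (fun i hi => h i (by omega)), h n (by omega)]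

theorem mk_eq (d : ℕ → ℕ) (hd : ∀ i, d i < 2 ^ 10) (n : ℕ) : mk d n = packW 10 d n := by
  induction n with
  | zero => simp [mk, packW]
  | succ n ih =>
    rw [mk_succ, ih, packW_succ, Nat.shiftLeft_eq, Nat.mul_comm (d n), Nat.lor_comm,
      Nat.two_pow_add_eq_or_of_lt (packW_lt 10 d hd n)]

theorem en_eq (c i : ℕ) : en c i = (c >>> (10 * i)) &&& 1023 := rfl

theorem en_lt (c i : ℕ) : en c i < 2 ^ 10 :=
  lt_of_le_of_lt (Nat.and_le_right (n := c >>> (10 * i))) (by norm_num)

theorem en_mk (d : ℕ → ℕ) (hd : ∀ i, d i < 2 ^ 10) {n i : ℕ} (hi : i < n) :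
    en (mk d n) i = d i := by
  rw [mk_eq d hd, en_eq]
  apply Nat.eq_of_testBit_eq
  intro j
  rw [Nat.testBit_and, Nat.testBit_shiftRight, testBit_packW 10 (by norm_num) d hd]
  by_cases hj : j < 10
  · have h1 : (10 * i + j) / 10 = i := by omega
    have h2 : (10 * i + j) % 10 = j := by omega
    have h3 : (1023 : ℕ).testBit j = true := by
      rw [show (1023 : ℕ) = 2 ^ 10 - 1 from rfl, Nat.testBit_two_pow_sub_one]; simp [hj]
    rw [h1, h2, h3]; simp [hi]
  · have h3 : (1023 : ℕ).testBit j = false := by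
      rw [show (1023 : ℕ) = 2 ^ 10 - 1 from rfl, Nat.testBit_two_pow_sub_one]; simp [hj]
    have h4 : (d i).testBit j = false :=
      Nat.testBit_lt_two_pow (lt_of_lt_of_le (hd i) (Nat.pow_le_pow_right (by norm_num) (by omega)))
    rw [h3, h4]; simp

/-- the code of the product. -/
def mulP (n a b : ℕ) : ℕ := mk (fun i => en a (en b i)) n

theorem en_mulP (n a b : ℕ) {i : ℕ} (hi : i < n) : en (mulP n a b) i = en a (en b i) :=
  en_mk _ (fun _ => en_lt _ _) hi

/-- canonical codes. -/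
def Canon (n c : ℕ) : Prop := mk (en c) n = c

theorem canon_mk (d : ℕ → ℕ) (hd : ∀ i, d i < 2 ^ 10) (n : ℕ) : Canon n (mk d n) :=
  mk_congr (fun _ hi => en_mk d hd hi)

theorem canon_mulP (n a b : ℕ) : Canon n (mulP n a b) := canon_mk _ (fun _ => en_lt _ _) n

/-- `c` is a code of the permutation `σ`. -/
def HasP {n : ℕ} (σ : Equiv.Perm (Fin n)) (c : ℕ) : Prop := ∀ i : Fin n, ((σ i : Fin n) : ℕ) = en c i

theorem HasP.mul {n : ℕ} {σ τ : Equiv.Perm (Fin n)} {a b : ℕ} (h1 : HasP σ a) (h2 : HasP τ b) :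
    HasP (σ * τ) (mulP n a b) := by
  intro i
  rw [en_mulP n a b i.2, ← h2 i, ← h1 (τ i)]
  rfl

theorem HasP.ext {n : ℕ} {σ τ : Equiv.Perm (Fin n)} {c : ℕ} (h1 : HasP σ c) (h2 : HasP τ c) :
    σ = τ := by
  ext i
  rw [h1 i, h2 i]

theorem HasP.code_eq {n : ℕ} {σ : Equiv.Perm (Fin n)} {c c' : ℕ} (h1 : HasP σ c) (h2 : HasP σ c')
    (hc : Canon n c) (hc' : Canon n c') : c = c' := by
  rw [← hc, ← hc']
  exact mk_congr (fun i hi => by rw [← h1 ⟨i, hi⟩, ← h2 ⟨i, hi⟩])

/-- the identity test. -/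
def isId (n c : ℕ) : Bool := allBelow (fun i => Nat.beq (en c i) i) n

theorem hasP_one {n c : ℕ} (h : isId n c = true) : HasP (1 : Equiv.Perm (Fin n)) c := by
  unfold isId at h
  rw [allBelow_iff] at h
  intro i
  have := h i i.2
  rw [Nat.beq_eq] at this
  rw [this]; rfl

theorem HasP.eq_one {n : ℕ} {σ : Equiv.Perm (Fin n)} {c : ℕ} (h1 : HasP σ c)
    (h : isId n c = true) : σ = 1 := h1.ext (hasP_one h)

theorem HasP.isId_of_eq_one {n : ℕ} {c : ℕ} (h1 : HasP (1 : Equiv.Perm (Fin n)) c) :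
    isId n c = true := by
  unfold isId
  rw [allBelow_iff]
  intro i hi
  rw [Nat.beq_eq, ← h1 ⟨i, hi⟩]
  rfl

/-- powers: `powP n e c k` is the code of `σ ^ k` (`e` a code of the identity). -/
def powP (n e c k : ℕ) : ℕ := Nat.rec e (fun _ ih => mulP n c ih) k

theorem HasP.pow {n : ℕ} {σ : Equiv.Perm (Fin n)} {c e : ℕ} (h : HasP σ c) (he : isId n e = true)
    (k : ℕ) : HasP (σ ^ k) (powP n e c k) := by
  induction k with
  | zero => rw [pow_zero]; exact hasP_one he
  | succ k ih => rw [pow_succ']; exact h.mul ih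

/-- a permutation from a code and the code of its inverse. -/
def invOK (n c c' : ℕ) : Bool :=
  band (allBelow (fun i => band (Nat.blt (en c i) n) (Nat.blt (en c' i) n)) n)
    (band (isId n (mulP n c c')) (isId n (mulP n c' c)))

theorem invOK_spec {n c c' : ℕ} (h : invOK n c c' = true) :
    (∀ i < n, en c i < n ∧ en c' i < n) ∧ (∀ i < n, en c (en c' i) = i) ∧
      ∀ i < n, en c' (en c i) = i := by
  unfold invOK isId at h
  rw [band_eq, band_eq, Bool.and_eq_true, Bool.and_eq_true, allBelow_iff, allBelow_iff,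
    allBelow_iff] at h
  refine ⟨fun i hi => ?_, fun i hi => ?_, fun i hi => ?_⟩
  · have := h.1 i hi
    rw [band_eq, Bool.and_eq_true] at this
    exact ⟨Nat.le_of_ble_eq_true this.1, Nat.le_of_ble_eq_true this.2⟩
  · have := h.2.1 i hi
    rwa [Nat.beq_eq, en_mulP n c c' hi] at this
  · have := h.2.2 i hi
    rwa [Nat.beq_eq, en_mulP n c' c hi] at this

/-- the permutation with code `c`. -/
def ofC (n c c' : ℕ) (h : invOK n c c' = true) : Equiv.Perm (Fin n) where
  toFun i := ⟨en c i, ((invOK_spec h).1 i i.2).1⟩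
  invFun i := ⟨en c' i, ((invOK_spec h).1 i i.2).2⟩
  left_inv i := Fin.ext ((invOK_spec h).2.2 i i.2)
  right_inv i := Fin.ext ((invOK_spec h).2.1 i i.2)

theorem hasP_ofC {n c c' : ℕ} (h : invOK n c c' = true) : HasP (ofC n c c' h) c := fun _ => rfl

theorem hasP_ofC_inv {n c c' : ℕ} (h : invOK n c c' = true) : HasP (ofC n c c' h)⁻¹ c' :=
  fun _ => rfl

/-- code of the inverse from a Boolean test. -/
theorem HasP.inv {n : ℕ} {σ : Equiv.Perm (Fin n)} {c c' : ℕ} (h1 : HasP σ c)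
    (h : invOK n c c' = true) : HasP σ⁻¹ c' := by
  have : σ = ofC n c c' h := h1.ext (hasP_ofC h)
  rw [this]; exact hasP_ofC_inv h

/-! ### lists -/

/-- the `k`-th entry of a list (kernel friendly; `0` outside). -/
def nth (l : List ℕ) : ℕ → ℕ :=
  List.rec (fun _ => 0) (fun a _ ih k => Nat.rec a (fun m _ => ih m) k) l

/-- the `k`-th entry of a list of lists. -/
def nthL (l : List (List ℕ)) : ℕ → List ℕ :=
  List.rec (fun _ => []) (fun a _ ih k => Nat.rec a (fun m _ => ih m) k) l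

/-- random access in a long list cut in pieces of length `w`. -/
def nth2 (l : List (List ℕ)) (w k : ℕ) : ℕ := nth (nthL l (Nat.div k w)) (Nat.mod k w)

/-- forcing the evaluation of a number. -/
def force {α : Type} (k : ℕ) (f : ℕ → α) : α := Nat.rec (f 0) (fun m _ => f (Nat.succ m)) k

theorem force_eq {α : Type} (k : ℕ) (f : ℕ → α) : force k f = f k := by cases k <;> rfl

end Cfsg.Agent.Lib.Helper92.PCX
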