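import Cfsg.Agent.Lib.Helper92.PCX.Aut1
import Cfsg.Agent.Lib.Helper92.PCX.Glue

/-!
# Boolean certificates for `AutSetup1`: a class given by orbit representatives

The class of `z` is the union of the orbits of representatives `Y r` under a list `W k` of elements
normalising `⟨a⟩`.  That all these conjugates are distinct is seen on the images of a few points.
-/

set_option autoImplicit false

namespace Cfsg.Agent.Lib.Helper92.PCX

open Cfsg.Agent.Lib.Helper27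
open Cfsg.Agent.Lib.Helper92

variable {n : ℕ}

/-- long packed tables, cut in pieces of 4096 entries. -/
def tb2 (l : List ℕ) (i : ℕ) : ℕ := tb (nth l (Nat.div i 4096)) (Nat.mod i 4096)

/-! ### the powers of `a` -/

/-- `A m` is the code of the `m`-th power. -/
def powsB (n ac : ℕ) (A : ℕ → ℕ) (p : ℕ) : Bool :=
  band (isId n (A 0)) (allBelow (fun m => Nat.beq (mulP n ac (A m)) (A (Nat.succ m))) p)

theorem pows_of_powsB {a : Equiv.Perm (Fin n)} {ac : ℕ} (ha : HasP a ac) {A : ℕ → ℕ} {p : ℕ}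
    (h : powsB n ac A p = true) : ∀ m, m ≤ p → HasP (a ^ m) (A m) := by
  unfold powsB at h
  rw [band_eq, Bool.and_eq_true, allBelow_iff] at h
  intro m
  induction m with
  | zero => intro _; rw [pow_zero]; exact hasP_one h.1
  | succ m ih =>
    intro hm
    have h1 := h.2 m (by omega)
    rw [Nat.beq_eq] at h1
    rw [pow_succ', ← h1]
    exact ha.mul (ih (by omega))

/-! ### inverse codes -/

/-- `Wi k` is the code of the inverse of `W k`. -/
def invsB (n : ℕ) (W Wi : ℕ → ℕ) (K : ℕ) : Bool := allBelow (fun k => invOK n (W k) (Wi k)) K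

theorem invs_of_invsB {W Wi : ℕ → ℕ} {K : ℕ} (h : invsB n W Wi K = true)
    {H : Subgroup (Equiv.Perm (Fin n))} (hW : ∀ k < K, ∃ σ ∈ H, HasP σ (W k)) :
    ∀ k < K, ∃ σ ∈ H, HasP σ (W k) ∧ HasP σ⁻¹ (Wi k) := by
  unfold invsB at h
  rw [allBelow_iff] at h
  intro k hk
  obtain ⟨σ, hσ, h1⟩ := hW k hk
  exact ⟨σ, hσ, h1, h1.inv (h k hk)⟩

/-! ### the representatives are conjugates of `z` -/

/-- every representative is obtained from an earlier one. -/
def repsB (n zc : ℕ) (W Wi Y par kk : ℕ → ℕ) (K lo cnt : ℕ) : Bool :=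
  allBelow (fun r' => force (Nat.add lo r') (fun r =>
    bor (band (Nat.beq r 0) (Nat.beq (Y 0) zc))
      (band (band (Nat.blt (par r) r) (Nat.blt (kk r) K))
        (Nat.beq (mulP n zc (mulP n (mulP n (mulP n (W (kk r)) (Y (par r))) (Wi (kk r))) zc)) (Y r))))) cnt

theorem repsB_spec {zc : ℕ} {W Wi Y par kk : ℕ → ℕ} {K lo cnt : ℕ}
    (h : repsB n zc W Wi Y par kk K lo cnt = true) {r : ℕ} (h1 : lo ≤ r) (h2 : r < lo + cnt) :
    (r = 0 ∧ Y 0 = zc) ∨ (par r < r ∧ kk r < K ∧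
      mulP n zc (mulP n (mulP n (mulP n (W (kk r)) (Y (par r))) (Wi (kk r))) zc) = Y r) := by
  unfold repsB at h
  rw [allBelow_iff] at h
  have h3 := h (r - lo) (by omega)
  have e : Nat.add lo (r - lo) = r := by show lo + (r - lo) = r; omega
  rw [force_eq, e, bor_eq, Bool.or_eq_true, band_eq, Bool.and_eq_true, Nat.beq_eq, Nat.beq_eq,
    band_eq, band_eq, Bool.and_eq_true, Bool.and_eq_true, Nat.beq_eq] at h3
  rcases h3 with h3 | ⟨⟨h3, h4⟩, h5⟩
  · exact Or.inl h3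
  · exact Or.inr ⟨Nat.le_of_ble_eq_true h3, Nat.le_of_ble_eq_true h4, h5⟩

theorem reps_of_repsB {z : Equiv.Perm (Fin n)} {zc : ℕ} (hz : HasP z zc) (hzz : z * z = 1)
    {P : Subgroup (Equiv.Perm (Fin n))} (hzP : z ∈ P) {W Wi Y par kk : ℕ → ℕ} {K R : ℕ}
    (hW : ∀ k < K, ∃ σ ∈ P, HasP σ (W k) ∧ HasP σ⁻¹ (Wi k))
    (h : ∀ r < R, (r = 0 ∧ Y 0 = zc) ∨ (par r < r ∧ kk r < K ∧
      mulP n zc (mulP n (mulP n (mulP n (W (kk r)) (Y (par r))) (Wi (kk r))) zc) = Y r)) :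
    ∀ r < R, ∃ x ∈ P, HasP (x * z * x⁻¹) (Y r) := by
  have hzi : z⁻¹ = z := inv_eq_of_mul_eq_one_left hzz
  intro r
  induction r using Nat.strong_induction_on with
  | _ r ih =>
    intro hr
    rcases h r hr with ⟨rfl, h1⟩ | ⟨h2, h3, h4⟩
    · refine ⟨1, P.one_mem, ?_⟩
      rw [h1]; simpa using hz
    · obtain ⟨x, hx, hxc⟩ := ih _ h2 (by omega)
      obtain ⟨σ, hσ, hσ1, hσ2⟩ := hW _ h3
      refine ⟨z * σ * x, P.mul_mem (P.mul_mem hzP hσ) hx, ?_⟩
      have e : z * σ * x * z * (z * σ * x)⁻¹ = z * (σ * (x * z * x⁻¹) * σ⁻¹ * z) := by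
        rw [mul_inv_rev, mul_inv_rev, hzi]; group
      rw [e, ← h4]
      exact hz.mul (((hσ1.mul hxc).mul hσ2).mul hz)

/-! ### images of a few points -/

/-- the images of the points `pts` under the conjugate, packed in a number. -/
def fpC (wk y wik : ℕ) (pts : List ℕ) : ℕ :=
  List.rec 0 (fun p _ ih => Nat.add (en wk (en y (en wik p))) (Nat.mul 1024 ih)) pts

/-- the same for a permutation. -/
def fpP (ρ : Equiv.Perm (Fin n)) (pts : List ℕ) : ℕ :=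
  List.rec 0 (fun p _ ih => (if h : p < n then ((ρ ⟨p, h⟩ : Fin n) : ℕ) else 0) + 1024 * ih) pts

theorem fpC_eq {σ τ : Equiv.Perm (Fin n)} {wk y wik : ℕ} (h1 : HasP σ wk) (h2 : HasP τ y)
    (h3 : HasP σ⁻¹ wik) (pts : List ℕ) (hp : ∀ p ∈ pts, p < n) :
    fpC wk y wik pts = fpP (σ * τ * σ⁻¹) pts := by
  induction pts with
  | nil => rfl
  | cons p pts ih =>
    have hpn : p < n := hp p List.mem_cons_self
    show en wk (en y (en wik p)) + 1024 * fpC wk y wik pts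
      = (if h : p < n then (((σ * τ * σ⁻¹) ⟨p, h⟩ : Fin n) : ℕ) else 0) + 1024 * fpP (σ * τ * σ⁻¹) pts
    rw [ih (fun q hq => hp q (List.mem_cons_of_mem _ hq)), dif_pos hpn]
    congr 1
    rw [← h3 ⟨p, hpn⟩, ← h2, ← h1]
    rfl

/-- the number attached to the `i`-th element of the class. -/
def fpI (W Wi Y sK sR : ℕ → ℕ) (pts : List ℕ) (i : ℕ) : ℕ :=
  force (sK i) (fun k => force (W k) (fun wk => force (Wi k) (fun wik =>
    force (Y (sR i)) (fun y => fpC wk y wik pts))))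

theorem fpI_eq (W Wi Y sK sR : ℕ → ℕ) (pts : List ℕ) (i : ℕ) :
    fpI W Wi Y sK sR pts i = fpC (W (sK i)) (Y (sR i)) (Wi (sK i)) pts := by
  unfold fpI
  rw [force_eq, force_eq, force_eq, force_eq]

/-- the numbers increase. -/
def clsB (W Wi Y sK sR : ℕ → ℕ) (pts : List ℕ) (K R M lo cnt : ℕ) : Bool :=
  allBelow (fun i => band (band (Nat.blt (sK (Nat.add lo i)) K) (Nat.blt (sR (Nat.add lo i)) R))
    (bor (Nat.beq (Nat.succ (Nat.add lo i)) M)
      (Nat.blt (fpI W Wi Y sK sR pts (Nat.add lo i)) (fpI W Wi Y sK sR pts (Nat.succ (Nat.add lo i)))))) cnt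

theorem clsB_spec {W Wi Y sK sR : ℕ → ℕ} {pts : List ℕ} {K R M lo cnt : ℕ}
    (h : clsB W Wi Y sK sR pts K R M lo cnt = true) {i : ℕ} (h1 : lo ≤ i) (h2 : i < lo + cnt) :
    sK i < K ∧ sR i < R ∧ (i + 1 = M ∨ fpI W Wi Y sK sR pts i < fpI W Wi Y sK sR pts (i + 1)) := by
  unfold clsB at h
  rw [allBelow_iff] at h
  have h3 := h (i - lo) (by omega)
  have e : Nat.add lo (i - lo) = i := by show lo + (i - lo) = i; omega
  rw [e, band_eq, band_eq, bor_eq, Bool.and_eq_true, Bool.and_eq_true, Bool.or_eq_true,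
    Nat.beq_eq] at h3
  refine ⟨Nat.le_of_ble_eq_true h3.1.1, Nat.le_of_ble_eq_true h3.1.2, ?_⟩
  rcases h3.2 with h4 | h4
  · exact Or.inl h4
  · exact Or.inr (Nat.le_of_ble_eq_true h4)

theorem inj_of_step {F : ℕ → ℕ} {M : ℕ} (h : ∀ i < M, i + 1 = M ∨ F i < F (i + 1)) :
    ∀ i < M, ∀ j < M, F i = F j → i = j := by
  have key : ∀ j, j < M → ∀ i, i < j → F i < F j := by
    intro j
    induction j with
    | zero => intro _ i hi; exact absurd hi (Nat.not_lt_zero _)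
    | succ j ih =>
      intro hj i hi
      have h1 : F j < F (j + 1) := by
        rcases h j (by omega) with h2 | h2
        · omega
        · exact h2
      rcases Nat.lt_succ_iff_lt_or_eq.1 hi with h2 | h2
      · exact (ih (by omega) i h2).trans h1
      · rw [h2]; exact h1
  intro i hi j hj e
  rcases Nat.lt_trichotomy i j with hlt | heq | hlt
  · exact absurd e (ne_of_lt (key j hj i hlt))
  · exact heq
  · exact absurd e.symm (ne_of_lt (key i hi j hlt))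

/-- the class of `z` is covered by the orbits of the representatives. -/
theorem cover_of_checks {z : Equiv.Perm (Fin n)} {P H C : Subgroup (Equiv.Perm (Fin n))}
    {W Wi Y sK sR : ℕ → ℕ} {pts : List ℕ} {K R M c : ℕ} (hHP : H ≤ P)
    (hW : ∀ k < K, ∃ σ ∈ H, HasP σ (W k) ∧ HasP σ⁻¹ (Wi k))
    (hY : ∀ r < R, ∃ x ∈ P, HasP (x * z * x⁻¹) (Y r)) (hp : ∀ p ∈ pts, p < n)
    (hcl : ∀ i < M, sK i < K ∧ sR i < R ∧
      (i + 1 = M ∨ fpI W Wi Y sK sR pts i < fpI W Wi Y sK sR pts (i + 1)))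
    (hG : Nat.card P = c * M) (hc0 : 0 < c) (hCP : C ≤ P) (hC : ∀ x ∈ C, z * x = x * z)
    (hc : c ≤ Nat.card C) :
    ∀ x ∈ P, ∃ σ ∈ H, ∃ τ, ∃ r < R, HasP τ (Y r) ∧ x * z * x⁻¹ = σ * τ * σ⁻¹ := by
  have h1 : ∀ i : Fin M, ∃ σ ∈ H, ∃ x ∈ P, HasP (x * z * x⁻¹) (Y (sR i)) ∧
      fpP (σ * (x * z * x⁻¹) * σ⁻¹) pts = fpI W Wi Y sK sR pts i := by
    intro i
    obtain ⟨a1, a2, -⟩ := hcl i i.2
    obtain ⟨σ, hσ, b1, b2⟩ := hW _ a1
    obtain ⟨x, hx, b3⟩ := hY _ a2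
    exact ⟨σ, hσ, x, hx, b3, by rw [fpI_eq, fpC_eq b1 b3 b2 pts hp]⟩
  choose σ hσ x hx hxc hfp using h1
  have hcov := class_cover P z hG hc0 C hCP hC hc (fun i => σ i * (x i * z * (x i)⁻¹) * (σ i)⁻¹)
    (by
      intro i j hij
      have e : fpI W Wi Y sK sR pts i = fpI W Wi Y sK sR pts j := by
        rw [← hfp i, ← hfp j]
        exact congrArg (fun ρ => fpP ρ pts) hij
      exact Fin.ext (inj_of_step (fun i hi => (hcl i hi).2.2) i i.2 j j.2 e))
    (fun i => ⟨σ i * x i, P.mul_mem (hHP (hσ i)) (hx i), by rw [mul_inv_rev]; group⟩)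
  intro y hy
  obtain ⟨i, hi⟩ := hcov y hy
  exact ⟨σ i, hσ i, _, sR i, (hcl i i.2).2.1, hxc i, hi⟩

/-! ### the relator tests -/

/-- for every representative and every power of `a` (except for `(a, z)`) some relator fails. -/
def mainC (n : ℕ) (A Y : ℕ → ℕ) (rels : List (List Bool × ℕ)) (cj cp : ℕ → ℕ) (p lo cnt : ℕ) : Bool :=
  allBelow (fun r' => force (Y (Nat.add lo r')) (fun y => allBelow (fun m =>
    bor (Nat.beq m 0) (bor (band (Nat.beq (Nat.add lo r') 0) (Nat.beq m 1))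
      (force (A m) (fun am => force (Nat.add (Nat.mul (Nat.add lo r') p) m) (fun i =>
        band (Nat.blt (cp i) n)
          (bnot (Nat.beq (trp am y (nthR rels (cj i)).1 (nthR rels (cj i)).2 (cp i)) (cp i)))))))) p)) cnt

theorem mainC_spec {a z : Equiv.Perm (Fin n)} {ac zc : ℕ} (ha : HasP a ac) (hz : HasP z zc)
    {A Y : ℕ → ℕ} {rels : List (List Bool × ℕ)} (hrel : relB n ac zc rels = true) {cj cp : ℕ → ℕ}
    {p lo cnt : ℕ} (h : mainC n A Y rels cj cp p lo cnt = true) {r m : ℕ} (h1 : lo ≤ r)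
    (h2 : r < lo + cnt) (hm0 : 0 < m) (hmp : m < p) {τ : Equiv.Perm (Fin n)} (hτ : HasP τ (Y r))
    (hA : HasP (a ^ m) (A m))
    (hw : ∀ (w : List Bool) (mm : ℕ), ev a z w ^ mm = 1 → ev (a ^ m) τ w ^ mm = 1) :
    r = 0 ∧ m = 1 := by
  unfold mainC at h
  rw [allBelow_iff] at h
  have h3 := h (r - lo) (by omega)
  have e : Nat.add lo (r - lo) = r := by show lo + (r - lo) = r; omega
  rw [force_eq, e, allBelow_iff] at h3
  have h4 := h3 m hmp
  rw [force_eq, force_eq, bor_eq, bor_eq, Bool.or_eq_true, Bool.or_eq_true, Nat.beq_eq, band_eq,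
    Bool.and_eq_true, Nat.beq_eq, Nat.beq_eq, band_eq, Bool.and_eq_true, bnot_eq_true] at h4
  rcases h4 with h4 | h4 | ⟨h4, h5⟩
  · omega
  · exact h4
  · exfalso
    set i := Nat.add (Nat.mul r p) m with hi
    have h4' : cp i < n := Nat.le_of_ble_eq_true h4
    have h6 := hw _ _ (rel_of_relB ha hz hrel (cj i))
    have h7 := trp_spec hA hτ (nthR rels (cj i)).1 (nthR rels (cj i)).2 ⟨cp i, h4'⟩
    rw [h6] at h7
    have h8 : trp (A m) (Y r) (nthR rels (cj i)).1 (nthR rels (cj i)).2 (cp i) = cp i := h7.symm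
    rw [h8, Nat.beq_refl] at h5
    exact Bool.noConfusion h5

/-- the hypothesis `H2` of `AutSetup1`. -/
theorem H2_of_checks {a z : Equiv.Perm (Fin n)} {zc p R : ℕ} {Y : ℕ → ℕ}
    {P H : Subgroup (Equiv.Perm (Fin n))} (hp : p.Prime) (oa : orderOf a = p) (hz : HasP z zc)
    (hY0 : Y 0 = zc) (hHP : H ≤ P) (hHN : H ≤ normZ a)
    (hcov : ∀ x ∈ P, ∃ σ ∈ H, ∃ τ, ∃ r < R, HasP τ (Y r) ∧ x * z * x⁻¹ = σ * τ * σ⁻¹)
    (hmain : ∀ r < R, ∀ m, 0 < m → m < p → ∀ τ : Equiv.Perm (Fin n), HasP τ (Y r) →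
      (∀ (w : List Bool) (mm : ℕ), ev a z w ^ mm = 1 → ev (a ^ m) τ w ^ mm = 1) → r = 0 ∧ m = 1) :
    ∀ (m : ℕ) (y : Equiv.Perm (Fin n)), 0 < m → m < p → (∃ x ∈ P, y = x * z * x⁻¹) →
    (∀ (w : List Bool) (mm : ℕ), ev a z w ^ mm = 1 → ev (a ^ m) y w ^ mm = 1) →
    ∃ u ∈ P, u * a * u⁻¹ = a ^ m ∧ u * z * u⁻¹ = y := by
  rintro m y hm0 hmp ⟨x, hx, rfl⟩ hw
  obtain ⟨σ, hσ, τ, r, hr, hτ, e⟩ := hcov x hx
  obtain ⟨m', hm0', hmp', e'⟩ := normZ_pow hp oa (hHN hσ) hm0 hmp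
  have hw' : ∀ (w : List Bool) (mm : ℕ), ev a z w ^ mm = 1 → ev (a ^ m') τ w ^ mm = 1 := by
    intro w mm h1
    have h2 := hw w mm h1
    have h3 := map_ev (MulAut.conj σ⁻¹).toMonoidHom (a ^ m) (x * z * x⁻¹) w
    have e1 : (MulAut.conj σ⁻¹).toMonoidHom (a ^ m) = a ^ m' := by
      rw [← e']; simp
    have e2 : (MulAut.conj σ⁻¹).toMonoidHom (x * z * x⁻¹) = τ := by
      rw [e]; simp [mul_assoc]
    rw [e1, e2] at h3
    rw [← h3, ← map_pow, h2, map_one]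
  obtain ⟨rfl, rfl⟩ := hmain r hr m' hm0' hmp' τ hτ hw'
  have hτz : τ = z := by rw [hY0] at hτ; exact hτ.ext hz
  refine ⟨σ, hHP hσ, ?_, ?_⟩
  · rw [pow_one] at e'
    calc σ * a * σ⁻¹ = σ * (σ⁻¹ * a ^ m * σ) * σ⁻¹ := by rw [e']
      _ = a ^ m := by group
  · rw [e, hτz]

end Cfsg.Agent.Lib.Helper92.PCX
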